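import Groth.Agent.FixLocusLib.Basic
import Groth.Agent.TransLib.RelField
import Groth.Prelude.Def_W4c1bouilletffgsL3

set_option autoImplicit false
universe u

open IsLocalRing MvPolynomial

namespace Groth.Agent.Lie3PointLib

variable {A : Type u} [CommRing A]

theorem quotient_of_li_dim [IsRegularLocalRing A] {ι : Type*} [Fintype ι]
    (f : ι → maximalIdeal A)
    (hli : LinearIndependent (ResidueField A) fun i => (maximalIdeal A).toCotangent (f i)) :
    IsRegularLocalRing (A ⧸ Ideal.span (Set.range fun i => (f i : A))) ∧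
      ringKrullDim (A ⧸ Ideal.span (Set.range fun i => (f i : A))) + Fintype.card ι = ringKrullDim A := by
  haveI hreg := FixLocusLib.isRegularLocalRing_quotient_of_li f hli
  refine ⟨hreg, ?_⟩
  classical
  set J := Ideal.span (Set.range fun i => (f i : A)) with hJ
  have hJm : J ≤ maximalIdeal A := Ideal.span_le.2 (by rintro _ ⟨i, rfl⟩; exact (f i).2)
  have hJne : J ≠ ⊤ := ne_top_of_le_ne_top (maximalIdeal.isMaximal A).ne_top hJm
  have := Ideal.Quotient.nontrivial_iff.2 hJne
  haveI : IsLocalRing (A ⧸ J) :=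
    IsLocalRing.of_surjective' (Ideal.Quotient.mk J) Ideal.Quotient.mk_surjective
  set K := ResidueField A
  set V := CotangentSpace A
  set W : Submodule K V := Submodule.span K (Set.range fun i => (maximalIdeal A).toCotangent (f i))
  obtain ⟨W', hW'⟩ := W.exists_isCompl
  let b := Module.finBasis K W'
  choose g hg using fun i => (maximalIdeal A).toCotangent_surjective (b i : V)
  have hW : Module.finrank K W = Fintype.card ι := finrank_span_eq_card hli
  have hsum := Submodule.finrank_add_eq_of_isCompl hW'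
  have hspan : Submodule.span A (Set.range f ∪ Set.range g) = ⊤ := by
    rw [← CotangentSpace.span_image_eq_top_iff, eq_top_iff, ← hW'.sup_eq_top, sup_le_iff]
    constructor
    · apply Submodule.span_le.2
      rintro _ ⟨i, rfl⟩
      exact Submodule.subset_span ⟨f i, Or.inl ⟨i, rfl⟩, rfl⟩
    · intro w hw
      have h1 : (⟨w, hw⟩ : W') ∈ Submodule.span K (Set.range b) := b.mem_span _
      have h2 := Submodule.mem_map_of_mem (f := W'.subtype) h1
      rw [Submodule.map_span] at h2
      refine Submodule.span_mono ?_ h2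
      rintro _ ⟨_, ⟨i, rfl⟩, rfl⟩
      exact ⟨g i, Or.inr ⟨i, rfl⟩, hg i⟩
  let t : Set (A ⧸ J) := Set.range fun i => Ideal.Quotient.mk J (g i : A)
  have hmax : maximalIdeal (A ⧸ J) ≤ Ideal.span t := by
    intro z hz
    obtain ⟨a, rfl⟩ := Ideal.Quotient.mk_surjective z
    have ha : a ∈ maximalIdeal A := by
      rw [mem_maximalIdeal, mem_nonunits_iff] at hz ⊢
      exact fun h => hz (h.map _)
    have h1 : (⟨a, ha⟩ : maximalIdeal A) ∈ Submodule.span A (Set.range f ∪ Set.range g) := by
      rw [hspan]; exact Submodule.mem_top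
    have h2 := Submodule.mem_map_of_mem (f := (maximalIdeal A).subtype) h1
    rw [Submodule.map_span] at h2
    have h3 := Ideal.mem_map_of_mem (Ideal.Quotient.mk J) h2
    rw [Ideal.submodule_span_eq, Ideal.map_span] at h3
    refine Ideal.span_le.2 ?_ h3
    rintro _ ⟨_, ⟨w, hw, rfl⟩, rfl⟩
    rcases hw with ⟨i, rfl⟩ | ⟨i, rfl⟩
    · show Ideal.Quotient.mk J (f i : A) ∈ Ideal.span t
      have hfi : (f i : A) ∈ J := Ideal.subset_span ⟨i, rfl⟩
      rw [Ideal.Quotient.eq_zero_iff_mem.2 hfi]
      exact zero_mem _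
    · exact Ideal.subset_span ⟨i, rfl⟩
  have hge : Ideal.span t ≤ maximalIdeal (A ⧸ J) := by
    rw [Ideal.span_le]
    rintro _ ⟨i, rfl⟩
    rw [SetLike.mem_coe, mem_maximalIdeal, mem_nonunits_iff]
    intro hu
    obtain ⟨c, hc⟩ := hu.exists_left_inv
    obtain ⟨c, rfl⟩ := Ideal.Quotient.mk_surjective c
    rw [← map_mul, ← sub_eq_zero, ← map_one (Ideal.Quotient.mk J), ← map_sub,
      Ideal.Quotient.eq_zero_iff_mem] at hc
    have : (1 : A) ∈ maximalIdeal A := by
      have := Ideal.sub_mem _ (Ideal.mul_mem_left (maximalIdeal A) c (g i).2) (hJm hc)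
      simpa using this
    exact (maximalIdeal.isMaximal A).ne_top ((Ideal.eq_top_iff_one _).2 this)
  have hn : (maximalIdeal (A ⧸ J)).spanFinrank ≤ Module.finrank K W' := by
    rw [le_antisymm hmax hge]
    refine (Submodule.spanFinrank_span_le_ncard_of_finite (Set.finite_range _)).trans ?_
    refine (Nat.card_coe_set_eq t).symm.le.trans ((Finite.card_range_le _).trans ?_)
    simp
  have hdimA := (IsRegularLocalRing.iff_finrank_cotangentSpace A).1 ‹_›
  have hK := ringKrullDim_le_ringKrullDim_quotient_add_spanFinrank J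
    (by rw [IsLocalRing.ringJacobson_eq_maximalIdeal]; exact hJm)
  have hJr : J.spanFinrank ≤ Fintype.card ι := by
    refine (Submodule.spanFinrank_span_le_ncard_of_finite (Set.finite_range _)).trans ?_
    refine (Nat.card_coe_set_eq _).symm.le.trans ((Finite.card_range_le _).trans ?_)
    simp
  rw [← hdimA, ← hsum, hW] at hK ⊢
  rw [← IsRegularLocalRing.spanFinrank_maximalIdeal (R := A ⧸ J)] at hK ⊢
  norm_cast at hK ⊢
  omega

variable (k : Type u) [Field k]

/-- the point -/
def pt (t : k) : Fin 9 → k := ![0, 1, 0, 0, 0, t, 0, 0, 0]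

theorem sub_C_eval_mem (v : Fin 9 → k) (f : MvPolynomial (Fin 9) k) :
    f - C (eval v f) ∈ Ideal.span (Set.range fun i => (X i - C (v i) : MvPolynomial (Fin 9) k)) := by
  induction f using MvPolynomial.induction_on with
  | C a => simp
  | add p q hp hq =>
    rw [map_add, map_add, add_sub_add_comm]
    exact add_mem hp hq
  | mul_X p i hp =>
    rw [map_mul, eval_X, map_mul,
      show p * X i - C (eval v p) * C (v i) = (p - C (eval v p)) * X i + C (eval v p) * (X i - C (v i)) by ring]
    exact add_mem (Ideal.mul_mem_right _ _ hp) (Ideal.mul_mem_left _ _ (Ideal.subset_span ⟨i, rfl⟩))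

theorem span_pt_eq_ker (t : k) :
    Ideal.span ({X 0, X 1 - 1, X 2, X 3, X 4, X 5 - C t, X 6, X 7, X 8} : Set (Lie3Mod.D k)) =
      RingHom.ker (eval (pt k t)) := by
  apply le_antisymm
  · rw [Ideal.span_le]
    intro z hz
    simp only [Set.mem_insert_iff, Set.mem_singleton_iff] at hz
    rcases hz with rfl | rfl | rfl | rfl | rfl | rfl | rfl | rfl | rfl <;> simp [pt, RingHom.mem_ker]
  · intro f hf
    have h := sub_C_eval_mem k (pt k t) f
    rw [RingHom.mem_ker.mp hf, map_zero, sub_zero] at h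
    refine Ideal.span_mono ?_ h
    rintro _ ⟨i, rfl⟩
    fin_cases i <;> simp [pt]

theorem cofactor : Lie3Mod.L2 k * Lie3Mod.detM k =
    (X 4 * X 2 - X 1 * X 5) * Lie3Mod.Q1 k + (X 7 * X 2 + X 8 * X 5) * Lie3Mod.Q2 k +
      -(X 7 * X 1 + X 8 * X 4) * Lie3Mod.Q3 k := by
  simp only [Lie3Mod.L2, Lie3Mod.detM, Lie3Mod.Q1, Lie3Mod.Q2, Lie3Mod.Q3]
  ring

theorem regular_at (t : k) (P : Ideal (Lie3Mod.D k)) [P.IsPrime] (hP : P = RingHom.ker (eval (pt k t)))
    {L : Type u} [CommRing L] [Algebra (Lie3Mod.D k) L] [IsLocalization.AtPrime L P] [IsLocalRing L] :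
    IsRegularLocalRing (L ⧸ (Lie3Mod.idJ k).map (algebraMap _ L)) ∧
      ringKrullDim (L ⧸ (Lie3Mod.idJ k).map (algebraMap _ L)) = 6 := by
  classical
  have hvsurj : Function.Surjective (eval (pt k t)) := fun c => ⟨C c, eval_C c⟩
  haveI hPmax : P.IsMaximal := hP ▸ RingHom.ker_isMaximal_of_surjective _ hvsurj
  have hmemP : ∀ f, f ∈ P ↔ eval (pt k t) f = 0 := fun f => by rw [hP, RingHom.mem_ker]
  have hmap : P.map (algebraMap _ L) = maximalIdeal L :=
    IsLocalization.AtPrime.map_eq_maximalIdeal P L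
  -- height
  have hht : ringKrullDim L = 9 := by
    rw [IsLocalization.AtPrime.ringKrullDim_eq_height P L]
    have h := TransLib.ringKrullDim_quotient_add_height_mvPolynomial k 9 P
    letI := Ideal.Quotient.field P
    rwa [ringKrullDim_eq_zero_of_field (Lie3Mod.D k ⧸ P), zero_add] at h
  haveI : IsNoetherianRing L := IsLocalization.isNoetherianRing P.primeCompl L inferInstance
  haveI : IsRegularLocalRing L := by
    apply IsRegularLocalRing.of_spanFinrank_maximalIdeal_le
    rw [hht, ← hmap, hP]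
    have : RingHom.ker (eval (pt k t)) =
        Ideal.span (Set.range fun i => (X i - C (pt k t i) : MvPolynomial (Fin 9) k)) := by
      refine le_antisymm (fun f hf => ?_) (Ideal.span_le.mpr ?_)
      · have h := sub_C_eval_mem k (pt k t) f
        rwa [RingHom.mem_ker.mp hf, map_zero, sub_zero] at h
      · rintro _ ⟨i, rfl⟩
        simp [RingHom.mem_ker]
    rw [this, Ideal.map_span]
    have h1 := Submodule.spanFinrank_span_le_ncard_of_finite (R := L)
      ((Set.finite_range fun i => (X i - C (pt k t i) : MvPolynomial (Fin 9) k)).image (algebraMap _ L))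
    have h2 : (algebraMap (Lie3Mod.D k) L ''
        Set.range fun i => (X i - C (pt k t i) : MvPolynomial (Fin 9) k)).ncard ≤ 9 := by
      rw [← Set.range_comp, ← Nat.card_coe_set_eq]
      exact (Finite.card_range_le _).trans (by simp)
    exact_mod_cast h1.trans h2
  -- the three elements
  let G : Lie3Mod.D k := if t = 0 then Lie3Mod.Q1 k else Lie3Mod.detM k
  let F : Fin 3 → Lie3Mod.D k := ![G, Lie3Mod.Q2 k, Lie3Mod.Q3 k]
  have hF0 : ∀ i, F i ∈ P := by
    intro i
    rw [hmemP]
    fin_cases i <;> simp [F, G, pt, Lie3Mod.Q1, Lie3Mod.Q2, Lie3Mod.Q3, Lie3Mod.detM]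
    split_ifs <;> simp
  have hFm : ∀ i, algebraMap (Lie3Mod.D k) L (F i) ∈ maximalIdeal L := fun i => hmap ▸ Ideal.mem_map_of_mem _ (hF0 i)
  have hres : ∀ c : ResidueField L, ∃ a : k, residue L (algebraMap (Lie3Mod.D k) L (C a)) = c := by
    intro c
    obtain ⟨z, rfl⟩ := residue_surjective c
    obtain ⟨a, ⟨s, hs⟩, rfl⟩ := IsLocalization.exists_mk'_eq P.primeCompl z
    have hs0 : eval (pt k t) s ≠ 0 := fun h => hs ((hmemP s).mpr h)
    refine ⟨eval (pt k t) a / eval (pt k t) s, ?_⟩
    rw [← sub_eq_zero, ← map_sub, residue_eq_zero_iff]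
    have hu : IsUnit (algebraMap (Lie3Mod.D k) L s) := IsLocalization.map_units L (⟨s, hs⟩ : P.primeCompl)
    rw [← Ideal.unit_mul_mem_iff_mem _ hu, mul_sub, IsLocalization.mk'_spec'_mk, ← map_mul, ← map_sub, ← hmap]
    refine Ideal.mem_map_of_mem _ ((hmemP _).mpr ?_)
    simp [mul_div_cancel₀ _ hs0]
  have hli : LinearIndependent (ResidueField L)
      fun i => (maximalIdeal L).toCotangent ⟨algebraMap (Lie3Mod.D k) L (F i), hFm i⟩ := by
    rw [Fintype.linearIndependent_iff]
    intro c hc
    choose a ha using fun i => hres (c i)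
    have hmem : algebraMap (Lie3Mod.D k) L (∑ i, C (a i) * F i) ∈ maximalIdeal L ^ 2 := by
      have h : (maximalIdeal L).toCotangent
          (∑ i, algebraMap (Lie3Mod.D k) L (C (a i)) • ⟨algebraMap (Lie3Mod.D k) L (F i), hFm i⟩) = 0 := by
        rw [map_sum, ← hc]
        refine Finset.sum_congr rfl fun i _ => ?_
        rw [map_smul, ← ha]
        rfl
      rw [Ideal.toCotangent_eq_zero] at h
      simpa [Algebra.smul_def] using h
    rw [← hmap, ← Ideal.map_pow, IsLocalization.algebraMap_mem_map_algebraMap_iff P.primeCompl] at hmem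
    obtain ⟨s, hs, hsm⟩ := hmem
    have hd : ∀ j, eval (pt k t) (pderiv j (∑ i, C (a i) * F i)) = 0 := by
      intro j
      have key : ∀ z ∈ P ^ 2, eval (pt k t) (pderiv j z) = 0 := by
        intro z hz
        rw [pow_two] at hz
        refine Submodule.mul_induction_on hz (fun x hx y hy => ?_) (fun x y hx hy => by simp [hx, hy])
        rw [Derivation.leibniz]
        simp [(hmemP x).mp hx, (hmemP y).mp hy]
      have h1 := key _ hsm
      have hsum : eval (pt k t) (∑ i, C (a i) * F i) = 0 :=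
        (hmemP _).mp (Submodule.sum_mem _ fun i _ => Ideal.mul_mem_left _ _ (hF0 i))
      rw [Derivation.leibniz, smul_eq_mul, smul_eq_mul, map_add, map_mul, map_mul, hsum, zero_mul, add_zero] at h1
      exact (mul_eq_zero.mp h1).resolve_left fun h => hs ((hmemP s).mpr h)
    have d0 := hd 0
    have d3 := hd 3
    have d6 := hd 6
    simp [Fin.sum_univ_three, F, pt, Lie3Mod.Q2, Lie3Mod.Q3, pderiv_X, Pi.single_apply] at d0 d3 d6
    have ha0 : ∀ i, a i = 0 := by
      by_cases ht : t = 0
      · simp [G, ht, pt, Lie3Mod.Q1, pderiv_X, Pi.single_apply] at d0 d3 d6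
        have hd8 := hd 8
        simp [Fin.sum_univ_three, F, G, ht, pt, Lie3Mod.Q1, Lie3Mod.Q2, Lie3Mod.Q3, pderiv_X, Pi.single_apply] at hd8
        intro i
        fin_cases i <;> simp_all
      · simp [G, ht, pt, Lie3Mod.detM, pderiv_X, Pi.single_apply] at d0 d3 d6
        intro i
        fin_cases i <;> simp_all
    intro i
    rw [← ha i, ha0 i, map_zero, map_zero, map_zero]
  obtain ⟨hreg, hdim⟩ := quotient_of_li_dim (fun i => (⟨algebraMap (Lie3Mod.D k) L (F i), hFm i⟩ : maximalIdeal L)) hli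
  have hJ : (Lie3Mod.idJ k).map (algebraMap _ L) =
      Ideal.span (Set.range fun i => algebraMap (Lie3Mod.D k) L (F i)) := by
    apply le_antisymm
    · rw [Lie3Mod.idJ, Ideal.map_span, Ideal.span_le]
      have hG : algebraMap (Lie3Mod.D k) L G ∈ Ideal.span (Set.range fun i => algebraMap (Lie3Mod.D k) L (F i)) :=
        Ideal.subset_span ⟨0, rfl⟩
      have h2 : algebraMap (Lie3Mod.D k) L (Lie3Mod.Q2 k) ∈
          Ideal.span (Set.range fun i => algebraMap (Lie3Mod.D k) L (F i)) := Ideal.subset_span ⟨1, rfl⟩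
      have h3 : algebraMap (Lie3Mod.D k) L (Lie3Mod.Q3 k) ∈
          Ideal.span (Set.range fun i => algebraMap (Lie3Mod.D k) L (F i)) := Ideal.subset_span ⟨2, rfl⟩
      have hc := congrArg (algebraMap (Lie3Mod.D k) L) (cofactor k)
      simp only [map_add, map_mul] at hc
      have h1d : algebraMap (Lie3Mod.D k) L (Lie3Mod.Q1 k) ∈
            Ideal.span (Set.range fun i => algebraMap (Lie3Mod.D k) L (F i)) ∧
          algebraMap (Lie3Mod.D k) L (Lie3Mod.detM k) ∈
            Ideal.span (Set.range fun i => algebraMap (Lie3Mod.D k) L (F i)) := by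
        by_cases ht : t = 0
        · have hu : IsUnit (algebraMap (Lie3Mod.D k) L (Lie3Mod.L2 k)) :=
            IsLocalization.map_units L (⟨Lie3Mod.L2 k, fun h => by
              have := (hmemP _).mp h
              simp [Lie3Mod.L2, pt, ht] at this⟩ : P.primeCompl)
          have hQ : algebraMap (Lie3Mod.D k) L (Lie3Mod.Q1 k) ∈
              Ideal.span (Set.range fun i => algebraMap (Lie3Mod.D k) L (F i)) := by simpa [G, ht] using hG
          refine ⟨hQ, ?_⟩
          rw [← Ideal.unit_mul_mem_iff_mem _ hu, hc]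
          exact add_mem (add_mem (Ideal.mul_mem_left _ _ hQ) (Ideal.mul_mem_left _ _ h2)) (Ideal.mul_mem_left _ _ h3)
        · have hu : IsUnit (algebraMap (Lie3Mod.D k) L (X 4 * X 2 - X 1 * X 5)) :=
            IsLocalization.map_units L (⟨X 4 * X 2 - X 1 * X 5, fun h => by
              have := (hmemP _).mp h
              simp [pt, ht] at this⟩ : P.primeCompl)
          have hD : algebraMap (Lie3Mod.D k) L (Lie3Mod.detM k) ∈
              Ideal.span (Set.range fun i => algebraMap (Lie3Mod.D k) L (F i)) := by simpa [G, ht] using hG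
          refine ⟨?_, hD⟩
          rw [← Ideal.unit_mul_mem_iff_mem _ hu]
          have hsub := Submodule.sub_mem _
            (Submodule.sub_mem _ (hc ▸ Ideal.mul_mem_left _ (algebraMap (Lie3Mod.D k) L (Lie3Mod.L2 k)) hD)
              (Ideal.mul_mem_left _ (algebraMap (Lie3Mod.D k) L (-(X 7 * X 1 + X 8 * X 4))) h3))
            (Ideal.mul_mem_left _ (algebraMap (Lie3Mod.D k) L (X 7 * X 2 + X 8 * X 5)) h2)
          convert hsub using 1
          simp only [map_add, map_mul, map_neg]
          ring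
      rintro _ ⟨z, hz, rfl⟩
      simp only [Set.mem_insert_iff, Set.mem_singleton_iff] at hz
      rcases hz with rfl | rfl | rfl | rfl
      exacts [h1d.1, h2, h3, h1d.2]
    · rw [Ideal.span_le]
      rintro _ ⟨i, rfl⟩
      refine Ideal.mem_map_of_mem _ (Ideal.subset_span ?_)
      fin_cases i <;> simp [F, G]
      all_goals split_ifs
      all_goals first | exact Or.inl (fun h => absurd ‹t = 0› h) | tauto
  rw [hJ]
  refine ⟨hreg, ?_⟩
  rw [hht, Fintype.card_fin] at hdim
  obtain ⟨d, hd⟩ : ∃ d : ℕ, ringKrullDim (L ⧸ Ideal.span (Set.range fun i => algebraMap (Lie3Mod.D k) L (F i))) = d := by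
    haveI := hreg
    exact ⟨_, (IsRegularLocalRing.spanFinrank_maximalIdeal (R := L ⧸ Ideal.span (Set.range fun i => algebraMap (Lie3Mod.D k) L (F i)))).symm⟩
  rw [hd] at hdim ⊢
  have : d + 3 = 9 := by exact_mod_cast hdim
  obtain rfl : d = 6 := by omega
  rfl

theorem quotient_atPrime_equiv {B : Type u} [CommRing B] (I : Ideal B) (P : Ideal B) [P.IsPrime]
    (Pb : Ideal (B ⧸ I)) [Pb.IsPrime] (hcomap : Pb.comap (Ideal.Quotient.mk I) = P) :
    Nonempty ((Localization.AtPrime P ⧸ I.map (algebraMap B (Localization.AtPrime P))) ≃+*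
      Localization.AtPrime Pb) := by
  set L := Localization.AtPrime P
  let φ : B →+* Localization.AtPrime Pb := (algebraMap (B ⧸ I) _).comp (Ideal.Quotient.mk I)
  have hun : ∀ s : P.primeCompl, IsUnit (φ s) := fun s =>
    IsLocalization.map_units (Localization.AtPrime Pb)
      (⟨Ideal.Quotient.mk I (s : B), fun h => s.2 (hcomap.le (Ideal.mem_comap.2 h))⟩ : Pb.primeCompl)
  let Φ : L →+* Localization.AtPrime Pb := IsLocalization.lift (M := P.primeCompl) (S := L) hun
  have hsurj : Function.Surjective Φ := by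
    intro y
    obtain ⟨b, ⟨s, hs⟩, rfl⟩ := IsLocalization.exists_mk'_eq Pb.primeCompl y
    obtain ⟨b, rfl⟩ := Ideal.Quotient.mk_surjective b
    obtain ⟨s, rfl⟩ := Ideal.Quotient.mk_surjective s
    refine ⟨IsLocalization.mk' L b (⟨s, fun h => hs (hcomap.ge h)⟩ : P.primeCompl), ?_⟩
    show IsLocalization.lift (M := P.primeCompl) (S := L) hun _ = _
    rw [IsLocalization.lift_mk'_spec, mul_comm]
    exact (IsLocalization.mk'_spec (Localization.AtPrime Pb) _ (⟨Ideal.Quotient.mk I s, hs⟩ : Pb.primeCompl)).symm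
  have hker : RingHom.ker Φ = I.map (algebraMap B L) := by
    refine le_antisymm (fun z hz => ?_) (Ideal.map_le_iff_le_comap.2 fun b hb => ?_)
    · obtain ⟨b, s, rfl⟩ := IsLocalization.exists_mk'_eq P.primeCompl z
      rw [RingHom.mem_ker, IsLocalization.lift_mk'_spec, mul_zero] at hz
      obtain ⟨⟨m, hm⟩, hmb⟩ := (IsLocalization.map_eq_zero_iff Pb.primeCompl _ _).1 hz
      obtain ⟨m, rfl⟩ := Ideal.Quotient.mk_surjective m
      rw [← map_mul, Ideal.Quotient.eq_zero_iff_mem] at hmb
      have hmP : m ∉ P := fun h => hm (hcomap.ge h)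
      rw [IsLocalization.mk'_eq_mul_mk'_one]
      refine Ideal.mul_mem_right _ _ ?_
      have hu : IsUnit (algebraMap B L m) := IsLocalization.map_units L (⟨m, hmP⟩ : P.primeCompl)
      rw [← Ideal.unit_mul_mem_iff_mem _ hu, ← map_mul]
      exact Ideal.mem_map_of_mem _ hmb
    · rw [Ideal.mem_comap, RingHom.mem_ker, IsLocalization.lift_eq]
      simp [φ, Ideal.Quotient.eq_zero_iff_mem.2 hb]
  exact ⟨(Ideal.quotEquivOfEq hker.symm).trans (RingHom.quotientKerEquivOfSurjective hsurj)⟩

end Groth.Agent.Lie3PointLib
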